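import Groth.Agent.Lib.SubTorus14.Image

/-!
Split subtori of groups of multiplicative type.
-/

universe u

open CategoryTheory MonoidalCategory CartesianMonoidalCategory MonObj GrpObj AlgebraicGeometry
open CategoryTheory.Limits

namespace GrothLib.SubTorus14

open GrothLib.DiagGrp

variable {S : Scheme.{u}}

/-- At a point, a monomorphism of diagonalisable groups is, on a neighbourhood, dual to a surjection. -/
theorem exists_surjective_char {L L' : Type} [AddCommGroup L] [AddCommGroup L'] (hL' : AddGroup.FG L')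
    (v : Red.DS S L ⟶ Red.DS S L') [IsMonHom v] [Mono v] (s : S) :
    ∃ (φ : L' →+ L) (U : S.Opens), Function.Surjective φ ∧ s ∈ U ∧
      (Over.pullback U.ι).map v = (Over.pullback U.ι).map (Red.DSmap S φ) := by
  obtain ⟨φ, hφ⟩ := exists_char v (S.fromSpecResidueField s)
  obtain ⟨U, -, hU, hUv⟩ := isClopen_charLocus hL' v φ
  refine ⟨φ, U, ?_, (hU s).mpr hφ, hUv⟩
  haveI : (Over.pullback (S.fromSpecResidueField s)).IsRightAdjoint :=
    (Over.mapPullbackAdj _).isRightAdjoint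
  have hm : Mono ((Over.pullback (S.fromSpecResidueField s)).map v) := inferInstance
  haveI : IsMonHom (v * (Red.DSmap S φ)⁻¹) :=
    isMonHom_mul_inv (mul_comm_of_charts (hasChartsFpqc_DS (M := L') S fgM hL')) v (Red.DSmap S φ)
  have he := pullback_map_eq v (Red.DSmap S φ) (S.fromSpecResidueField s) hφ
  rw [he] at hm
  refine char_of_mono.{u} (L := S.residueField s) φ ?_
  have h2 : Mono ((Over.pullback (S.fromSpecResidueField s)).map (Red.DSmap S φ)).left := by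
    haveI := hm
    infer_instance
  exact (pAt_dsmap_iff (P := MorphismProperty.monomorphisms Scheme.{u}) φ (S.fromSpecResidueField s)).mp h2

theorem rank_le_of_surjective {r : ℕ} {M : Type} [AddCommGroup M] (hM : AddGroup.FG M)
    (φ : M →+ (Fin r → ℤ)) (hφ : Function.Surjective φ) : r ≤ Module.finrank ℤ M := by
  haveI : Module.Finite ℤ M := Module.Finite.iff_addGroup_fg.mpr hM
  have h := LinearMap.finrank_le_finrank_of_surjective (f := φ.toIntLinearMap) hφ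
  simpa using h

/-- A monomorphism of split tori does not decrease the rank. -/
theorem rank_le_of_mono [Nonempty S] {r r' : ℕ} (v : Red.DS S (Fin r → ℤ) ⟶ Red.DS S (Fin r' → ℤ)) [IsMonHom v]
    [Mono v] : r ≤ r' := by
  obtain ⟨s⟩ := (inferInstance : Nonempty S)
  obtain ⟨φ, U, hφ, -, -⟩ := exists_surjective_char (fg_int_pi r') v s
  simpa using rank_le_of_surjective (fg_int_pi r') φ hφ

/-- A monomorphism of split tori of non-increasing rank is an isomorphism. -/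
theorem isIso_of_mono {r r' : ℕ} (h : Nonempty S → r' ≤ r)
    (v : Red.DS S (Fin r → ℤ) ⟶ Red.DS S (Fin r' → ℤ)) [IsMonHom v] [Mono v] : IsIso v := by
  have hloc : ∀ s : S, ∃ U : S.Opens, s ∈ U ∧ IsIso ((Over.pullback U.ι).map v).left := by
    intro s
    obtain ⟨φ, U, hφ, hs, hU⟩ := exists_surjective_char (fg_int_pi r') v s
    refine ⟨U, hs, ?_⟩
    haveI : Nonempty S := ⟨s⟩
    have hr : r = r' := le_antisymm (by simpa using rank_le_of_surjective (fg_int_pi r') φ hφ) (h ‹_›)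
    subst hr
    have hbij : Function.Bijective φ :=
      ⟨OrzechProperty.injective_of_surjective_endomorphism φ.toIntLinearMap hφ, hφ⟩
    rw [hU]
    exact (pAt_dsmap_iff (P := MorphismProperty.isomorphisms Scheme.{u}) φ U.ι).mpr (charCond_iso.dsmap φ hbij _)
  choose U hsU hU using hloc
  have h1 : IsIso ((Over.pullback (𝟙 S)).map v).left :=
    of_baseCover (MorphismProperty.isomorphisms Scheme.{u}) v (𝟙 S) (S.openCoverOfIsOpenCover U
      (TopologicalSpace.IsOpenCover.mk (eq_top_iff.mpr fun x _ => TopologicalSpace.Opens.mem_iSup.mpr ⟨x, hsU x⟩)))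
      fun s => pAt_congr (MorphismProperty.isomorphisms Scheme.{u}) v (Category.comp_id (U s).ι).symm (hU s)
  haveI : IsIso ((Over.forget S).map v) := by
    have h2 := (MorphismProperty.isomorphisms Scheme.{u}).arrow_mk_iso_iff
      (Arrow.isoMk ((Over.forget S).mapIso (Over.pullbackId.app (Red.DS S (Fin r → ℤ))))
        ((Over.forget S).mapIso (Over.pullbackId.app (Red.DS S (Fin r' → ℤ))))
        (congrArg (fun t => t.left) (Over.pullbackId.hom.naturality v)).symm :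
        Arrow.mk ((Over.pullback (𝟙 S)).map v).left ≅ Arrow.mk v.left)
    exact h2.mp h1
  exact isIso_of_reflects_iso v (Over.forget S)

theorem mono_DS_zero (G : Over S) [GrpObj G] : Mono (1 : Red.DS S (Fin 0 → ℤ) ⟶ G) := by
  refine ⟨fun {Y} a b _ => QuotTorus14.ext_affine fun C _ p t => ?_⟩
  obtain ⟨χ, hχ⟩ := (dsPoint (Fin 0 → ℤ) p).surjective (t ≫ a)
  obtain ⟨χ', hχ'⟩ := (dsPoint (Fin 0 → ℤ) p).surjective (t ≫ b)
  have e : χ = χ' := MonoidHom.ext fun m => by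
    rw [show m = 1 from Subsingleton.elim (α := Multiplicative (Fin 0 → ℤ)) _ _, map_one, map_one]
  rw [← hχ, ← hχ', e]

variable {G : Over S} [GrpObj G]

theorem isSeparated_of_multType (hG : SGA3x.IsMultTypeFT G) : IsSeparated G.hom := by
  haveI := EssFree.isAffineHom_multTypeFT G hG
  infer_instance

/-- The rank of a split subtorus is bounded. -/
theorem exists_rank_bound [Nonempty S] (hG : SGA3x.IsMultTypeFT G) :
    ∃ B : ℕ, ∀ (r : ℕ) (j : Red.DS S (Fin r → ℤ) ⟶ G) [IsMonHom j] [Mono j], r ≤ B := by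
  obtain ⟨S', π, -, hsurj, -, hloc⟩ := hG
  obtain ⟨s⟩ := (inferInstance : Nonempty S)
  obtain ⟨s', -⟩ := hsurj.surj s
  obtain ⟨U, hU, M, inst, hM, ⟨e⟩⟩ := hloc s'
  haveI : Nonempty (U : Scheme.{u}) := ⟨⟨s', hU⟩⟩
  refine ⟨Module.finrank ℤ M, fun r j _ _ => ?_⟩
  let f : (U : Scheme.{u}) ⟶ S := U.ι ≫ π
  haveI := isMonHom_dsBc f (Fin r → ℤ)
  haveI := isIso_dsBc f (Fin r → ℤ)
  haveI : (Over.pullback f).IsRightAdjoint := (Over.mapPullbackAdj f).isRightAdjoint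
  haveI : IsMonHom e.hom.hom.hom := e.hom.hom.isMonHom_hom
  haveI : IsIso e.hom.hom.hom := inferInstanceAs (IsIso ((Grp.forget _).mapIso e).hom)
  haveI hjm : IsMonHom ((Over.pullback f).map j) := inferInstance
  haveI : IsMonHom (dsBc f (Fin r → ℤ) ≫ (Over.pullback f).map j) := inferInstance
  let v : Red.DS (U : Scheme.{u}) (Fin r → ℤ) ⟶ Red.DS (U : Scheme.{u}) M :=
    (dsBc f (Fin r → ℤ) ≫ (Over.pullback f).map j) ≫ e.hom.hom.hom
  haveI : IsMonHom v := isMonHom_of_points _ fun Y a b =>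
    (Category.assoc _ _ _).symm.trans ((congrArg (· ≫ e.hom.hom.hom)
      (MonObj.mul_comp a b (dsBc f (Fin r → ℤ) ≫ (Over.pullback f).map j))).trans
        ((MonObj.mul_comp _ _ e.hom.hom.hom).trans (by simp only [v, Category.assoc])))
  haveI : Mono v := inferInstance
  obtain ⟨φ, -, hφ, -, -⟩ := exists_surjective_char hM v (Classical.arbitrary _)
  exact rank_le_of_surjective hM φ hφ

/-- There is a split subtorus of maximal rank. -/
theorem exists_maximal_rank (hG : SGA3x.IsMultTypeFT G) :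
    ∃ (r : ℕ) (j : Red.DS S (Fin r → ℤ) ⟶ G), IsMonHom j ∧ Mono j ∧
      ∀ (r' : ℕ) (j' : Red.DS S (Fin r' → ℤ) ⟶ G) [IsMonHom j'] [Mono j'], Nonempty S → r' ≤ r := by
  classical
  have h0 : ∃ j : Red.DS S (Fin 0 → ℤ) ⟶ G, IsMonHom j ∧ Mono j :=
    ⟨1, isMonHom_of_points _ fun Y a b => by rw [MonObj.comp_one, MonObj.comp_one, MonObj.comp_one, _root_.mul_one],
      mono_DS_zero G⟩
  by_cases hS : Nonempty S
  · obtain ⟨B, hB⟩ := exists_rank_bound hG
    obtain ⟨j, hj1, hj2⟩ := Nat.findGreatest_spec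
      (P := fun r => ∃ j : Red.DS S (Fin r → ℤ) ⟶ G, IsMonHom j ∧ Mono j) (Nat.zero_le B) h0
    exact ⟨_, j, hj1, hj2, fun r' j' _ _ _ => Nat.le_findGreatest (hB r' j') ⟨j', inferInstance, inferInstance⟩⟩
  · obtain ⟨j, hj1, hj2⟩ := h0
    exact ⟨0, j, hj1, hj2, fun r' j' _ _ h => absurd h hS⟩

theorem split_transport {T : Over S} [GrpObj T] {L : Type} [AddCommGroup L] (e : Grp.mk T ≅ Grp.mk (Red.DS S L))
    (j : T ⟶ G) [IsMonHom j] [Mono j] : IsMonHom (e.inv.hom.hom ≫ j) ∧ Mono (e.inv.hom.hom ≫ j) := by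
  haveI : IsMonHom e.inv.hom.hom := e.inv.hom.isMonHom_hom
  haveI : IsIso e.inv.hom.hom := inferInstanceAs (IsIso ((Grp.forget _).mapIso e).inv)
  exact ⟨isMonHom_of_points _ fun Y a b => (Category.assoc _ _ _).symm.trans ((congrArg (· ≫ j)
    (MonObj.mul_comp a b e.inv.hom.hom)).trans ((MonObj.mul_comp _ _ j).trans
      (by rw [Category.assoc, Category.assoc]))), inferInstance⟩

/-- Factorisations of split subtori through split subtori of maximal rank are isomorphisms. -/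
theorem isIso_factor {r r' : ℕ} (hr : Nonempty S → r' ≤ r) {T T' : Over S} [GrpObj T] [GrpObj T']
    (e : Grp.mk T ≅ Grp.mk (Red.DS S (Fin r → ℤ))) (e' : Grp.mk T' ≅ Grp.mk (Red.DS S (Fin r' → ℤ)))
    (j : T ⟶ G) [IsMonHom j] [Mono j] (j' : T' ⟶ G) [IsMonHom j'] [Mono j'] (g : T ⟶ T') (hg : g ≫ j' = j) :
    IsIso g := by
  haveI : IsMonHom (g ≫ j') := hg.symm ▸ ‹IsMonHom j›
  haveI : IsMonHom g := isMonHom_of_comp_mono g j'
  haveI : Mono g := mono_of_mono_fac hg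
  haveI : IsIso e.inv.hom.hom := inferInstanceAs (IsIso ((Grp.forget _).mapIso e).inv)
  haveI : IsIso e'.hom.hom.hom := inferInstanceAs (IsIso ((Grp.forget _).mapIso e').hom)
  haveI : IsMonHom e.inv.hom.hom := e.inv.hom.isMonHom_hom
  haveI : IsMonHom e'.hom.hom.hom := e'.hom.hom.isMonHom_hom
  let v : Red.DS S (Fin r → ℤ) ⟶ Red.DS S (Fin r' → ℤ) := e.inv.hom.hom ≫ g ≫ e'.hom.hom.hom
  haveI : IsMonHom v := isMonHom_of_points _ fun Y a b =>
    (Category.assoc _ _ _).symm.trans ((congrArg (· ≫ g ≫ e'.hom.hom.hom) (MonObj.mul_comp a b e.inv.hom.hom)).trans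
      ((Category.assoc _ _ _).symm.trans ((congrArg (· ≫ e'.hom.hom.hom) (MonObj.mul_comp _ _ g)).trans
        ((MonObj.mul_comp _ _ e'.hom.hom.hom).trans (by simp only [v, Category.assoc])))))
  haveI : Mono v := inferInstance
  haveI := isIso_of_mono hr v
  haveI : IsIso (g ≫ e'.hom.hom.hom) := IsIso.of_isIso_comp_left e.inv.hom.hom _
  exact IsIso.of_isIso_comp_right g e'.hom.hom.hom

/-- Two split subtori lie in a third one. -/
theorem exists_join [ConnectedSpace S] (hG : SGA3x.IsMultTypeFT G) {r₁ r₂ : ℕ}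
    (j₁ : Red.DS S (Fin r₁ → ℤ) ⟶ G) [IsMonHom j₁] (j₂ : Red.DS S (Fin r₂ → ℤ) ⟶ G) [IsMonHom j₂] :
    ∃ (r : ℕ) (j : Red.DS S (Fin r → ℤ) ⟶ G), IsMonHom j ∧ Mono j ∧ (∃ g, g ≫ j = j₁) ∧ ∃ g, g ≫ j = j₂ := by
  haveI := isSeparated_of_multType hG
  let L₁ := Fin r₁ → ℤ
  let L₂ := Fin r₂ → ℤ
  let p₁ := Red.DSmap S (AddMonoidHom.inl L₁ L₂)
  let p₂ := Red.DSmap S (AddMonoidHom.inr L₁ L₂)
  let u : Red.DS S (L₁ × L₂) ⟶ G := (p₁ ≫ j₁) * (p₂ ≫ j₂)
  have hcomm := mul_comm_of_charts (hasChartsFpqc_of_isMultTypeFT hG)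
  haveI : IsMonHom u := isMonHom_of_points _ fun Y a b => by
    simp only [u, MonObj.comp_mul]
    rw [← Category.assoc (a * b), show (a * b) ≫ p₁ = (a ≫ p₁) * (b ≫ p₁) from MonObj.mul_comp a b p₁,
      ← Category.assoc (a * b), show (a * b) ≫ p₂ = (a ≫ p₂) * (b ≫ p₂) from MonObj.mul_comp a b p₂,
      MonObj.mul_comp, MonObj.mul_comp]
    letI : CommGroup (Y ⟶ G) := { (inferInstance : Group (Y ⟶ G)) with mul_comm := hcomm Y }
    simp only [Category.assoc]
    exact _root_.mul_mul_mul_comm _ _ _ _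
  have hfg : AddGroup.FG (L₁ × L₂) := Module.Finite.iff_addGroup_fg.mp inferInstance
  obtain ⟨Δ, d, hd1, hd2, hd3⟩ := exists_image hfg (lfp_of_isMultTypeFT hG) u
  haveI := hd1
  haveI := hd2
  let N := AddSubgroup.toIntSubmodule Δ
  let ψ : (Fin (Module.finrank ℤ N) → ℤ) ≃+ Δ := (Module.finBasis ℤ N).equivFun.symm.toAddEquiv
  obtain ⟨e⟩ := QuotTorus14.exists_iso_DS S ψ
  haveI : IsIso e.inv.hom.hom := inferInstanceAs (IsIso ((Grp.forget _).mapIso e).inv)
  obtain ⟨h1, h2⟩ := split_transport e d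
  have key : ∀ (L' : Type) [AddCommGroup L'] (j' : Red.DS S L' ⟶ G) (π : (L₁ × L₂) →+ L'),
      Red.DSmap S π ≫ u = j' → ∃ g, g ≫ e.inv.hom.hom ≫ d = j' := fun L' _ j' π hπ =>
    ⟨(Red.DSmap S π ≫ Red.DSmap S Δ.subtype) ≫ e.hom.hom.hom, by
      rw [Category.assoc, ← Category.assoc e.hom.hom.hom]
      refine (congrArg ((Red.DSmap S π ≫ Red.DSmap S Δ.subtype) ≫ ·) ?_).trans
        ((Category.assoc _ _ _).trans ((congrArg (Red.DSmap S π ≫ ·) hd3).trans hπ))
      exact (congrArg (· ≫ d) (congrArg (fun t => t.hom.hom) e.hom_inv_id)).trans (Category.id_comp d)⟩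
  have hp : ∀ (A : Type) [AddCommGroup A] (π : (L₁ × L₂) →+ A), Red.DSmap S π ≫ u =
      (Red.DSmap S π ≫ p₁ ≫ j₁) * (Red.DSmap S π ≫ p₂ ≫ j₂) := fun A _ π => MonObj.comp_mul _ _ _
  have hcomp : ∀ (A B : Type) [AddCommGroup A] [AddCommGroup B] (π : (L₁ × L₂) →+ A) (ι' : B →+ L₁ × L₂),
      Red.DSmap S π ≫ Red.DSmap S ι' = Red.DSmap S (π.comp ι') := fun A B _ _ π ι' =>
    ds_hom_ext fun C _ p χ => by
      rw [← Category.assoc, dsPoint_DSmap, dsPoint_DSmap, dsPoint_DSmap]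
      rfl
  have hid : ∀ (A : Type) [AddCommGroup A], Red.DSmap S (AddMonoidHom.id A) = 𝟙 _ := fun A _ =>
    ds_hom_ext fun C _ p χ => by
      rw [dsPoint_DSmap, Category.comp_id]
      rfl
  have hzero : ∀ (A B : Type) [AddCommGroup A] [AddCommGroup B], Red.DSmap S (0 : B →+ A) = 1 :=
    fun A B _ _ => ds_hom_ext fun C _ p χ => by
      rw [dsPoint_DSmap, MonObj.comp_one, ← map_one (dsPoint B p)]
      exact congrArg _ (MonoidHom.ext fun b => map_one χ)
  refine ⟨_, e.inv.hom.hom ≫ d, h1, h2, key _ j₁ (AddMonoidHom.fst L₁ L₂) ?_, key _ j₂ (AddMonoidHom.snd L₁ L₂) ?_⟩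
  · rw [hp, ← Category.assoc, ← Category.assoc, hcomp, hcomp, AddMonoidHom.fst_comp_inl,
      AddMonoidHom.fst_comp_inr, hid, hzero, Category.id_comp,
      show (1 : Red.DS S L₁ ⟶ Red.DS S L₂) ≫ j₂ = 1 from MonObj.one_comp j₂, _root_.mul_one]
  · rw [hp, ← Category.assoc, ← Category.assoc, hcomp, hcomp, AddMonoidHom.snd_comp_inr,
      AddMonoidHom.snd_comp_inl, hid, hzero, Category.id_comp,
      show (1 : Red.DS S L₂ ⟶ Red.DS S L₁) ≫ j₁ = 1 from MonObj.one_comp j₁, _root_.one_mul]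

theorem exists_maximal_split (hG : SGA3x.IsMultTypeFT G) :
    ∃ (T : Over S) (_ : GrpObj T) (j : T ⟶ G) (r : ℕ), IsMonHom j ∧ Mono j ∧ Red.IsSplitTorusWith (Fin r → ℤ) T ∧
      ∀ (T' : Over S) [GrpObj T'] (j' : T' ⟶ G) [IsMonHom j'] [Mono j'] (r' : ℕ) (g : T ⟶ T'),
        Red.IsSplitTorusWith (Fin r' → ℤ) T' → g ≫ j' = j → IsIso g := by
  obtain ⟨r, j, h1, h2, hmax⟩ := exists_maximal_rank hG
  haveI := h1
  haveI := h2
  refine ⟨Red.DS S (Fin r → ℤ), inferInstance, j, r, h1, h2, ⟨Iso.refl _⟩, ?_⟩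
  intro T' _ j' _ _ r' g ⟨e'⟩ hg
  obtain ⟨h3, h4⟩ := split_transport e' j'
  exact isIso_factor (@hmax r' _ h3 h4) (Iso.refl _) e' j j' g hg

theorem exists_greatest_split [ConnectedSpace S] (hG : SGA3x.IsMultTypeFT G) :
    ∃ (T : Over S) (_ : GrpObj T) (j : T ⟶ G) (r : ℕ), IsMonHom j ∧ Mono j ∧ Red.IsSplitTorusWith (Fin r → ℤ) T ∧
      ∀ (T' : Over S) [GrpObj T'] (j' : T' ⟶ G) [IsMonHom j'] [Mono j'] (r' : ℕ),
        Red.IsSplitTorusWith (Fin r' → ℤ) T' → ∃ g : T' ⟶ T, g ≫ j = j' := by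
  obtain ⟨r, j, h1, h2, hmax⟩ := exists_maximal_rank hG
  haveI := h1
  haveI := h2
  refine ⟨Red.DS S (Fin r → ℤ), inferInstance, j, r, h1, h2, ⟨Iso.refl _⟩, ?_⟩
  intro T' _ j' _ _ r' ⟨e'⟩
  obtain ⟨h3, h4⟩ := split_transport e' j'
  haveI := h3
  obtain ⟨r₃, j₃, h5, h6, ⟨g₁, hg₁⟩, g₂, hg₂⟩ := exists_join hG j (e'.inv.hom.hom ≫ j')
  haveI := h5
  haveI := h6
  haveI := isIso_factor (@hmax r₃ j₃ h5 h6) (Iso.refl _) (Iso.refl _) j j₃ g₁ hg₁
  refine ⟨e'.hom.hom.hom ≫ g₂ ≫ inv g₁, ?_⟩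
  rw [Category.assoc, Category.assoc, show inv g₁ ≫ j = j₃ by rw [← hg₁, IsIso.inv_hom_id_assoc], hg₂,
    ← Category.assoc]
  exact (congrArg (· ≫ j') (congrArg (fun t => t.hom.hom) e'.hom_inv_id)).trans (Category.id_comp j')

end GrothLib.SubTorus14
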