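import Groth.Agent.Lib.SubTorus14.Glue
import Groth.Agent.Lib.SubTorus14.Split
import Groth.Agent.Lib.MultDef14.SubTransporter

/-!
Images of homomorphisms out of diagonalisable groups, locally on the base.
-/

universe u

open CategoryTheory MonoidalCategory CartesianMonoidalCategory MonObj GrpObj AlgebraicGeometry
open CategoryTheory.Limits

namespace GrothLib.SubTorus14

open GrothLib.DiagGrp

variable {W : Scheme.{u}} {L : Type} [AddCommGroup L]

theorem isMultTypeFT_DS (W : Scheme.{u}) {N : Type} [AddCommGroup N] (hN : AddGroup.FG N) :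
    SGA3x.IsMultTypeFT (Red.DS W N) :=
  QuotTorus14.isMultTypeFT_of_charts (hasChartsFpqc_DS (M := N) W fgM hN)

theorem quasiCompact_DSmap (W : Scheme.{u}) {L N : Type} [AddCommGroup L] [AddCommGroup N] (hL : AddGroup.FG L)
    (hN : AddGroup.FG N) (φ : N →+ L) : QuasiCompact (Red.DSmap W φ).left := by
  haveI := EssFree.isAffineHom_multTypeFT _ (isMultTypeFT_DS W hL)
  haveI := EssFree.isAffineHom_multTypeFT _ (isMultTypeFT_DS W hN)
  haveI : IsAffineHom ((Red.DSmap W φ).left ≫ (Red.DS W N).hom) := by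
    rw [Over.w]
    infer_instance
  haveI : IsAffineHom (Red.DSmap W φ).left := IsAffineHom.of_comp _ (Red.DS W N).hom
  infer_instance

/-- Near each point a homomorphism out of `D(L)` is restriction of characters followed by a closed subgroup. -/
theorem exists_local_image {G : Over W} [GrpObj G] (hG : SGA3x.IsMultTypeFT G) (hL : AddGroup.FG L)
    (u : Red.DS W L ⟶ G) [IsMonHom u] (w : W) :
    ∃ (V : W.Opens) (Δ : AddSubgroup L) (c : Red.bc V.ι (Red.DS W L) ⟶ Red.DS (V : Scheme.{u}) Δ)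
      (d : Red.DS (V : Scheme.{u}) Δ ⟶ Red.bc V.ι G),
      w ∈ V ∧ IsSchemeTheoreticallyDominant c.left ∧ IsMonHom d ∧ IsClosedImmersion d.left ∧
        c ≫ d = (Over.pullback V.ι).map u := by
  haveI := isSeparated_of_multType hG
  obtain ⟨V, hwV, Δ, hΔ⟩ := exists_good_hom hL (lfp_of_isMultTypeFT hG) u w
  have hfg := fg_subgroup hL Δ
  haveI := isMonHom_dsBc V.ι L
  haveI := isIso_dsBc V.ι L
  haveI : IsMonHom ((Over.pullback V.ι).map u) := inferInstance
  haveI : IsMonHom (dsBc V.ι L ≫ (Over.pullback V.ι).map u) := inferInstance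
  set v := Red.DSmap (V : Scheme.{u}) Δ.subtype
  haveI : IsMonHom v := isMonHom_DSmap (V : Scheme.{u}) Δ.subtype
  obtain ⟨_, _, _⟩ := QuotTorus14.dsmap_fppf (W := (V : Scheme.{u})) hL hfg Δ.subtype Subtype.val_injective
  have key : ∀ (C : Type u) [CommRing C] (t : Spec (CommRingCat.of C) ⟶ (V : Scheme.{u}))
      (χ : Multiplicative L →* C),
      dsPoint L t χ ≫ dsBc V.ι L ≫ (Over.pullback V.ι).map u = 1 ↔ dsPoint L (t ≫ V.ι) χ ≫ u = 1 := by
    intro C _ t χ
    rw [← Category.assoc, dsPoint_dsBc, ← bcPoint_comp_right,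
      ← map_one (bcPointMulEquiv V.ι G (Over.mk t))]
    exact Equiv.apply_eq_iff_eq _
  have hker : ∀ (C : Type u) [CommRing C] (t : Spec (CommRingCat.of C) ⟶ (V : Scheme.{u}))
      (χ : Multiplicative L →* C),
      dsPoint L t χ ≫ dsBc V.ι L ≫ (Over.pullback V.ι).map u = 1 ↔ dsPoint L t χ ≫ v = 1 := by
    intro C _ t χ
    haveI : IsMonHom (Red.DSmap W Δ.subtype) := isMonHom_DSmap W Δ.subtype
    rw [key, ← map_one (dsPoint Δ t), dsPoint_DSmap, EmbeddingLike.apply_eq_iff_eq]
    have h := hΔ C (t ≫ V.ι) (fun x => (t.base x).2) (dsPoint L (t ≫ V.ι) χ) (dsPoint L (t ≫ V.ι) 1)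
    rw [QuotTorus14.comp_subtype_eq_iff, map_one, MonObj.one_comp] at h
    rw [h]
    exact ⟨fun h => MonoidHom.ext fun l' => h l'.toAdd, fun h l => DFunLike.congr_fun h (Multiplicative.ofAdd l)⟩
  obtain ⟨d, hd⟩ := QuotTorus14.exists_desc v (dsBc V.ι L ≫ (Over.pullback V.ι).map u) fun C _ p a b hab => by
    obtain ⟨χ, hc⟩ := (dsPoint L p).surjective (a⁻¹ * b)
    have h3 : dsPoint L p χ ≫ v = 1 := by
      rw [hc]
      exact (inv_mul_comp_eq_one v a b).mpr hab
    have h4 := (hker C p χ).mpr h3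
    rw [hc] at h4
    exact (inv_mul_comp_eq_one _ a b).mp h4
  haveI : IsMonHom (v ≫ d) := by rw [hd]; infer_instance
  haveI : IsMonHom d := QuotTorus14.isMonHom_desc v d
  haveI : Mono d := mono_of_trivial_kernel d fun Y g hg =>
    eq_one_of_lift v d (𝟙 _) (fun C _ t a ha => by
      obtain ⟨χ, rfl⟩ := (dsPoint L _).surjective a
      rw [Category.assoc, hd] at ha
      exact (hker C _ χ).mp ha) Y Y.hom (Category.comp_id _) g hg
  have hd' : IsClosedImmersion d.left :=
    MultDef14.isClosedImmersion_of_mono (isMultTypeFT_DS (V : Scheme.{u}) hfg)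
      (MorphismProperty.pullback_snd (P := @IsAffineHom) _ _ (EssFree.isAffineHom_multTypeFT G hG)) d
  refine ⟨V, Δ, inv (dsBc V.ι L) ≫ v, d, hwV, ?_, ‹_›, hd', ?_⟩
  · haveI := quasiCompact_DSmap (V : Scheme.{u}) hL hfg Δ.subtype
    haveI : IsIso (inv (dsBc V.ι L)).left := inferInstanceAs (IsIso ((Over.forget _).map (inv (dsBc V.ι L))))
    haveI : Flat (inv (dsBc V.ι L) ≫ v).left := inferInstanceAs (Flat ((inv (dsBc V.ι L)).left ≫ v.left))
    haveI : Surjective (inv (dsBc V.ι L) ≫ v).left := inferInstanceAs (Surjective ((inv (dsBc V.ι L)).left ≫ v.left))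
    haveI : QuasiCompact (inv (dsBc V.ι L) ≫ v).left :=
      inferInstanceAs (QuasiCompact ((inv (dsBc V.ι L)).left ≫ v.left))
    exact dominant_of_fpqc _
  · rw [Category.assoc, hd, IsIso.inv_hom_id_assoc]

end GrothLib.SubTorus14
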