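import Groth.Agent.Lib.SubTorus14.LocalImage
import Groth.Agent.Lib.DiagGrp.ProductChart

/-!
The join of two locally split subtori.
-/

universe u

open CategoryTheory MonoidalCategory CartesianMonoidalCategory MonObj GrpObj AlgebraicGeometry
open CategoryTheory.Limits

namespace GrothLib.SubTorus14

open GrothLib.DiagGrp

variable {S : Scheme.{u}}

/-- Zariski locally on the base `T` is a split torus. -/
def LocallySplit (T : Over S) [GrpObj T] : Prop :=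
  ∀ s : S, ∃ U : S.Opens, s ∈ U ∧ ∃ r : ℕ, Red.IsSplitTorusWith (Fin r → ℤ) (Red.bc U.ι T)

theorem isMultTypeFT_of_locallySplit {T : Over S} [GrpObj T] (hT : LocallySplit T) : SGA3x.IsMultTypeFT T :=
  QuotTorus14.isMultTypeFT_of_charts (QuotTorus14.hasChartsFpqc_of_locallySplit hT)

theorem exists_chart_le {T : Over S} [GrpObj T] {U V : S.Opens} (h : V ≤ U) {r : ℕ}
    (hT : Red.IsSplitTorusWith (Fin r → ℤ) (Red.bc U.ι T)) :
    Red.IsSplitTorusWith (Fin r → ℤ) (Red.bc V.ι T) := by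
  obtain ⟨e⟩ := hT
  exact QuotTorus14.exists_chart_precomp U.ι (S.homOfLE h) V.ι (S.homOfLE_ι h).symm e

variable {G : Over S} [GrpObj G]

/-- Two locally split subtori lie in a third one. -/
theorem exists_join_locallySplit (hG : SGA3x.IsMultTypeFT G) {E₁ E₂ : Over S} [GrpObj E₁] [GrpObj E₂]
    (j₁ : E₁ ⟶ G) [IsMonHom j₁] (j₂ : E₂ ⟶ G) [IsMonHom j₂] (h₁ : LocallySplit E₁) (h₂ : LocallySplit E₂) :
    ∃ (E₃ : Over S) (_ : GrpObj E₃) (j₃ : E₃ ⟶ G) (g₁ : E₁ ⟶ E₃) (g₂ : E₂ ⟶ E₃), IsMonHom j₃ ∧ Mono j₃ ∧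
      LocallySplit E₃ ∧ g₁ ≫ j₃ = j₁ ∧ g₂ ≫ j₃ = j₂ := by
  haveI := isSeparated_of_multType hG
  have hcomm := mul_comm_of_charts (hasChartsFpqc_of_isMultTypeFT hG)
  set u : E₁ ⊗ E₂ ⟶ G := (fst E₁ E₂ ≫ j₁) * (snd E₁ E₂ ≫ j₂)
  haveI : IsMonHom u := isMonHom_mul_central j₁ j₂ fun X g h => hcomm X g _
  haveI : IsAffineHom (E₁ ⊗ E₂).hom := by
    haveI := EssFree.isAffineHom_multTypeFT _ (isMultTypeFT_of_locallySplit h₁)
    haveI := EssFree.isAffineHom_multTypeFT _ (isMultTypeFT_of_locallySplit h₂)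
    haveI : IsAffineHom (pullback.fst E₁.hom E₂.hom) :=
      MorphismProperty.pullback_fst (P := @IsAffineHom) _ _ ‹IsAffineHom E₂.hom›
    exact MorphismProperty.comp_mem @IsAffineHom _ _ ‹_› ‹IsAffineHom E₁.hom›
  haveI : QuasiCompact (u.left ≫ G.hom) := by
    rw [Over.w]
    infer_instance
  haveI : QuasiCompact u.left := QuasiCompact.of_comp u.left G.hom
  -- the data on charts
  have hloc : ∀ s : S, ∃ (V : S.Opens) (W' : V.toScheme.Opens) (B : Over W'.toScheme) (_ : GrpObj B) (r : ℕ)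
      (_ : Red.IsSplitTorusWith (Fin r → ℤ) B) (c : Red.bc W'.ι (Red.bc V.ι (E₁ ⊗ E₂)) ⟶ B)
      (d : B ⟶ Red.bc W'.ι (Red.bc V.ι G)),
      s ∈ Set.range (W'.ι ≫ V.ι) ∧ IsSchemeTheoreticallyDominant c.left ∧ IsMonHom d ∧ IsClosedImmersion d.left ∧
        c ≫ d = (Over.pullback W'.ι).map ((Over.pullback V.ι).map u) := by
    intro s
    obtain ⟨U₁, hU₁, r₁, hr₁⟩ := h₁ s
    obtain ⟨U₂, hU₂, r₂, hr₂⟩ := h₂ s
    obtain ⟨V, hV, hsV, hVU⟩ := exists_isAffineOpen_mem_and_subset (show s ∈ U₁ ⊓ U₂ from ⟨hU₁, hU₂⟩)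
    haveI : IsAffine V.toScheme := hV
    obtain ⟨e₁⟩ := exists_chart_le (le_trans hVU inf_le_left) hr₁
    obtain ⟨e₂⟩ := exists_chart_le (le_trans hVU inf_le_right) hr₂
    obtain ⟨e, -⟩ := exists_prod_chart V.ι e₁ e₂
    let ε : Red.bc V.ι (E₁ ⊗ E₂) ≅ Red.DS V.toScheme ((Fin r₁ → ℤ) × (Fin r₂ → ℤ)) := (Grp.forget _).mapIso e
    haveI : IsMonHom ε.inv := e.inv.hom.isMonHom_hom
    haveI : IsMonHom ((Over.pullback V.ι).map u) := inferInstance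
    haveI : IsMonHom (ε.inv ≫ (Over.pullback V.ι).map u) := inferInstance
    have hfg : AddGroup.FG ((Fin r₁ → ℤ) × (Fin r₂ → ℤ)) := Module.Finite.iff_addGroup_fg.mp inferInstance
    obtain ⟨W', Δ, c, d, hw, hc, hd1, hd2, hcd⟩ := exists_local_image (QuotTorus14.isMultTypeFT_of_charts ((hasChartsFpqc_of_isMultTypeFT hG).baseChange V.ι)) hfg
      (ε.inv ≫ (Over.pullback V.ι).map u) ⟨s, hsV⟩
    let N := AddSubgroup.toIntSubmodule Δ
    let ψ : (Fin (Module.finrank ℤ N) → ℤ) ≃+ Δ := (Module.finBasis ℤ N).equivFun.symm.toAddEquiv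
    obtain ⟨eB⟩ := QuotTorus14.exists_iso_DS W'.toScheme ψ
    refine ⟨V, W', _, _, _, ⟨eB⟩, (Over.pullback W'.ι).map ε.hom ≫ c, d, ⟨⟨⟨s, hsV⟩, hw⟩, rfl⟩, ?_, hd1, hd2, ?_⟩
    · haveI := hc
      haveI : IsIso ((Over.pullback W'.ι).map ε.hom).left :=
        inferInstanceAs (IsIso ((Over.forget _).map ((Over.pullback W'.ι).map ε.hom)))
      exact inferInstanceAs (IsSchemeTheoreticallyDominant (((Over.pullback W'.ι).map ε.hom).left ≫ c.left))
    · rw [Category.assoc, hcd, ← Functor.map_comp, Iso.hom_inv_id_assoc]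
  obtain ⟨Q, gQ, j, q, hj1, hj2, hqj, hQ⟩ := exists_subgroup_image u fun s => by
    obtain ⟨V, W', B, gB, r, -, c, d, h⟩ := hloc s
    exact ⟨_, V.ι, _, W'.ι, B, gB, c, d, inferInstance, inferInstance, h⟩
  haveI := hj1
  haveI : Mono j := (Over.forget S).mono_of_mono_map (haveI := hj2; inferInstanceAs (Mono j.left))
  refine ⟨Q, gQ, j, lift (𝟙 E₁) 1 ≫ q, lift 1 (𝟙 E₂) ≫ q, hj1, ‹_›, fun s => ?_, ?_, ?_⟩
  · obtain ⟨V, W', B, gB, r, ⟨eB⟩, c, d, hs, hc, hd1, hd2, hcd⟩ := hloc s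
    obtain ⟨e⟩ := hQ _ V.ι _ W'.ι B c d inferInstance inferInstance hc hd1 hd2 hcd
    let U : S.Opens := (W'.ι ≫ V.ι).opensRange
    refine ⟨U, hs, r, ?_⟩
    let a : U.toScheme ≅ W'.toScheme :=
      IsOpenImmersion.isoOfRangeEq U.ι (W'.ι ≫ V.ι) (Scheme.Opens.range_ι _)
    have ha : a.hom ≫ W'.ι ≫ V.ι = U.ι := IsOpenImmersion.isoOfRangeEq_hom_fac _ _ _
    exact QuotTorus14.exists_chart_precomp (W'.ι ≫ V.ι) a.hom U.ι ha.symm
      (bcGrpComp Q V.ι W'.ι (W'.ι ≫ V.ι) rfl ≪≫ e ≪≫ eB)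
  · rw [Category.assoc, hqj]
    simp only [u, MonObj.comp_mul, lift_fst_assoc, lift_snd_assoc, Category.id_comp, MonObj.one_comp,
      _root_.mul_one]
  · rw [Category.assoc, hqj]
    simp only [u, MonObj.comp_mul, lift_fst_assoc, lift_snd_assoc, Category.id_comp, MonObj.one_comp,
      _root_.one_mul]

end GrothLib.SubTorus14
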