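import Groth.Agent.Lib.QuotTorus14.Global

/-!
Points of a base change of a diagonalisable group.
-/

universe u

open CategoryTheory MonoidalCategory CartesianMonoidalCategory MonObj GrpObj AlgebraicGeometry
open CategoryTheory.Limits

namespace GrothLib.SubTorus14

open GrothLib.DiagGrp

set_option backward.isDefEq.respectTransparency false in
theorem bcPoint_left_fst {S W : Scheme.{u}} (f : W ⟶ S) (X : Over S) (T : Over W) (g : (Over.map f).obj T ⟶ X) :
    (bcPoint f X T g).left ≫ pullback.fst X.hom f = g.left := by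
  simp [bcPoint, Adjunction.homEquiv_unit, Over.mapPullbackAdj]

theorem dsPoint_left_fst {S : Scheme.{u}} {L : Type} [AddCommGroup L] {C : Type u} [CommRing C]
    (p : Spec (CommRingCat.of C) ⟶ S) (χ : Multiplicative L →* C) :
    (dsPoint L p χ).left ≫
        pullback.fst (Red.diag (ULift.{u} ℤ) L).hom (Limits.IsTerminal.from specULiftZIsTerminal S) =
      (letI := algZ C; ((baseIso p).hom ≫ specPoint (ULift.{u} ℤ) L C χ).left) :=
  bcPoint_left_fst _ _ _ _

variable {S W : Scheme.{u}} (f : W ⟶ S) (L : Type) [AddCommGroup L]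

/-- The projection of `D_W(L)` to `D_S(L)`. -/
noncomputable def dsProj : (Over.map f).obj (Red.DS W L) ⟶ Red.DS S L :=
  Over.homMk (pullback.lift (pullback.fst _ _) (pullback.snd _ _ ≫ f) (specULiftZIsTerminal.hom_ext _ _))
    (pullback.lift_snd _ _ _)

/-- `D_W(L)` mapped to the base change of `D_S(L)`. -/
noncomputable def dsBc : Red.DS W L ⟶ Red.bc f (Red.DS S L) := bcPoint f (Red.DS S L) (Red.DS W L) (dsProj f L)

theorem dsPoint_dsBc {C : Type u} [CommRing C] (p : Spec (CommRingCat.of C) ⟶ W) (χ : Multiplicative L →* C) :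
    dsPoint L p χ ≫ dsBc f L = bcPoint f (Red.DS S L) (Over.mk p) (dsPoint L (p ≫ f) χ) := by
  rw [dsBc, ← bcPoint_comp]
  refine congrArg (bcPoint f _ _) (Over.OverMorphism.ext (pullback.hom_ext ?_ ?_))
  · refine Eq.trans ?_ (dsPoint_left_fst (p ≫ f) χ).symm
    refine (Category.assoc _ _ _).trans ?_
    refine (congrArg ((dsPoint L p χ).left ≫ ·) (pullback.lift_fst _ _ _)).trans ?_
    exact dsPoint_left_fst p χ
  · refine Eq.trans ?_ (Over.w (dsPoint L (p ≫ f) χ)).symm
    refine (Category.assoc _ _ _).trans ?_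
    refine (congrArg ((dsPoint L p χ).left ≫ ·) (pullback.lift_snd _ _ _)).trans ?_
    exact (Category.assoc _ _ _).symm.trans (congrArg (· ≫ f) (Over.w (dsPoint L p χ)))

theorem isIso_dsBc : IsIso (dsBc f L) := by
  let t := Limits.IsTerminal.from specULiftZIsTerminal S
  let t' := Limits.IsTerminal.from specULiftZIsTerminal W
  let d : Red.bc f (Red.DS S L) ⟶ Red.DS W L :=
    Over.homMk (pullback.lift (pullback.fst (Red.DS S L).hom f ≫ pullback.fst (Red.diag (ULift.{u} ℤ) L).hom t)
      (pullback.snd (Red.DS S L).hom f) (specULiftZIsTerminal.hom_ext _ _)) (pullback.lift_snd _ _ _)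
  have hc : (dsBc f L).left ≫ pullback.fst (Red.DS S L).hom f = (dsProj f L).left := bcPoint_left_fst _ _ _ _
  refine ⟨d, Over.OverMorphism.ext (pullback.hom_ext ?_ ?_), Over.OverMorphism.ext (pullback.hom_ext ?_ ?_)⟩
  · refine (Category.assoc _ _ _).trans ((congrArg ((dsBc f L).left ≫ ·) (pullback.lift_fst _ _ _)).trans ?_)
    refine (Category.assoc _ _ _).symm.trans ((congrArg (· ≫ pullback.fst _ t) hc).trans ?_)
    exact (pullback.lift_fst _ _ _).trans (Category.id_comp _).symm
  · exact (Over.w (dsBc f L ≫ d)).trans (Over.w (𝟙 (Red.DS W L))).symm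
  · refine (Category.assoc _ _ _).trans ((congrArg (d.left ≫ ·) hc).trans ?_)
    apply pullback.hom_ext
    · refine (Category.assoc _ _ _).trans ((congrArg (d.left ≫ ·) (pullback.lift_fst _ _ _)).trans ?_)
      exact (pullback.lift_fst _ _ _).trans (congrArg (· ≫ pullback.fst _ t) (Category.id_comp _)).symm
    · refine (Category.assoc _ _ _).trans ((congrArg (d.left ≫ ·) (pullback.lift_snd _ _ _)).trans ?_)
      refine (Category.assoc _ _ _).symm.trans ((congrArg (· ≫ f) (pullback.lift_snd _ _ _)).trans ?_)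
      exact (pullback.condition.symm.trans (congrArg (· ≫ pullback.snd _ t) (Category.id_comp _)).symm)
  · exact (Over.w (d ≫ dsBc f L)).trans (Over.w (𝟙 (Red.bc f (Red.DS S L)))).symm

theorem isMonHom_dsBc : IsMonHom (dsBc f L) := isMonHom_of_points _ fun Y a b => QuotTorus14.ext_affine fun C _ p t => by
  obtain ⟨χ, hχ⟩ := (dsPoint L p).surjective (t ≫ a)
  obtain ⟨χ', hχ'⟩ := (dsPoint L p).surjective (t ≫ b)
  rw [← Category.assoc, MonObj.comp_mul, MonObj.comp_mul, ← Category.assoc, ← Category.assoc, ← hχ, ← hχ', ← map_mul,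
    dsPoint_dsBc, dsPoint_dsBc, dsPoint_dsBc, map_mul]
  exact map_mul (bcPointMulEquiv f (Red.DS S L) (Over.mk p)) _ _

/-- The base change of a diagonalisable group, compatibly with points. -/
noncomputable def bcChart : Grp.mk (Red.bc f (Red.DS S L)) ≅ Grp.mk (Red.DS W L) :=
  haveI := isIso_dsBc f L
  haveI := isMonHom_dsBc f L
  haveI : IsMonHom (asIso (dsBc f L)).hom := isMonHom_dsBc f L
  (Grp.mkIso' (asIso (dsBc f L))).symm

theorem ptG_bcChart {C : Type u} [CommRing C] (p : Spec (CommRingCat.of C) ⟶ W) (χ : Multiplicative L →* C) :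
    ptG f (bcChart f L) p χ = dsPoint L (p ≫ f) χ :=
  (bcPointMulEquiv f (Red.DS S L) (Over.mk p)).injective
    (((bcPointMulEquiv f (Red.DS S L) (Over.mk p)).apply_symm_apply _).trans (dsPoint_dsBc f L p χ))

end GrothLib.SubTorus14
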