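import Groth.Agent.Lib.SubTorus14.Image
import Groth.Agent.Lib.EssFree.Subgroup
import Groth.Agent.Lib.AlgSp.SchImage

/-!
Subgroup images glued from local images.
-/

universe u

open CategoryTheory MonoidalCategory CartesianMonoidalCategory MonObj GrpObj AlgebraicGeometry
open CategoryTheory.Limits

namespace GrothLib.SubTorus14

open GrothLib.DiagGrp

/-- A flat surjective quasi-compact morphism is scheme theoretically dominant. -/
theorem dominant_of_fpqc {X Y : Scheme.{u}} (f : X ⟶ Y) [Flat f] [Surjective f] [QuasiCompact f] :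
    IsSchemeTheoreticallyDominant f := by
  haveI : IsIso (pullback.snd f.imageι f) := by
    haveI : IsSplitEpi (pullback.snd f.imageι f) :=
      ⟨⟨⟨pullback.lift f.toImage (𝟙 X) (by rw [f.toImage_imageι, Category.id_comp]), pullback.lift_snd _ _ _⟩⟩⟩
    exact isIso_of_mono_of_isSplitEpi _
  haveI : IsIso f.imageι :=
    MorphismProperty.of_isPullback_of_descendsAlong (P := MorphismProperty.isomorphisms Scheme.{u})
      (Q := @Surjective ⊓ @Flat ⊓ @QuasiCompact) (IsPullback.of_hasPullback f.imageι f).flip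
      ⟨⟨inferInstance, inferInstance⟩, inferInstance⟩ ‹IsIso (pullback.snd f.imageι f)›
  rw [isSchemeTheoreticallyDominant_iff]
  have h : f.imageι.ker = f.ker := Scheme.IdealSheafData.ker_subschemeι f.ker
  rw [← h]
  exact Scheme.Hom.ker_eq_bot_of_isIso _

variable {S : Scheme.{u}}

/-- Factoring through a monomorphism is Zariski local on the base. -/
theorem exists_factor_local {Q G T : Over S} (j : Q ⟶ G) [Mono j] (g : T ⟶ G)
    (h : ∀ s : S, ∃ (W : Scheme.{u}) (f : W ⟶ S), IsOpenImmersion f ∧ s ∈ Set.range f ∧ Factor g j f) :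
    ∃ z : T ⟶ Q, z ≫ j = g := by
  choose W f hf hs hfac using h
  let 𝒰 : S.OpenCover :=
    Scheme.openCoverOfIsOpenCover S (fun s => (haveI := hf s; (f s).opensRange))
      (TopologicalSpace.IsOpenCover.mk (eq_top_iff.mpr fun x _ => TopologicalSpace.Opens.mem_iSup.mpr ⟨x, hs x⟩))
  have h1 : IsIso ((Over.pullback (𝟙 S)).map (pullback.fst g j)).left :=
    of_baseCover (MorphismProperty.isomorphisms Scheme.{u}) (pullback.fst g j) (𝟙 S) 𝒰 fun s => by
      haveI := hf s
      refine (factor_iff_isIso g j _).mp ((hfac s).precomp (IsOpenImmersion.lift (f s) (𝒰.f s ≫ 𝟙 S) ?_) _ ?_)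
      · rw [Category.comp_id]
        exact le_of_eq (Scheme.Opens.range_ι _)
      · exact (IsOpenImmersion.lift_fac _ _ _).symm
  exact (let ⟨y, hy⟩ := (factor_iff_isIso g j (𝟙 S)).mpr h1 T T.hom (Category.comp_id _) (𝟙 T)
    ⟨y, hy.trans (Category.id_comp g)⟩)

variable {A G : Over S} [GrpObj G]

/-- The scheme theoretic image of a quasi-compact morphism is a subgroup if it is one locally. -/
theorem exists_subgroup_image (u : A ⟶ G) [QuasiCompact u.left]
    (hloc : ∀ s : S, ∃ (W : Scheme.{u}) (f : W ⟶ S) (W' : Scheme.{u}) (g : W' ⟶ W)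
      (B : Over W') (_ : GrpObj B) (c : Red.bc g (Red.bc f A) ⟶ B) (d : B ⟶ Red.bc g (Red.bc f G)),
      IsOpenImmersion f ∧ IsOpenImmersion g ∧ s ∈ Set.range (g ≫ f) ∧ IsSchemeTheoreticallyDominant c.left ∧
        IsMonHom d ∧ IsClosedImmersion d.left ∧ c ≫ d = (Over.pullback g).map ((Over.pullback f).map u)) :
    ∃ (Q : Over S) (_ : GrpObj Q) (j : Q ⟶ G) (q : A ⟶ Q), IsMonHom j ∧ IsClosedImmersion j.left ∧ q ≫ j = u ∧
      ∀ (W : Scheme.{u}) (f : W ⟶ S) (W' : Scheme.{u}) (g : W' ⟶ W) (B : Over W') [GrpObj B]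
        (c : Red.bc g (Red.bc f A) ⟶ B) (d : B ⟶ Red.bc g (Red.bc f G)),
        IsOpenImmersion f → IsOpenImmersion g → IsSchemeTheoreticallyDominant c.left → IsMonHom d →
        IsClosedImmersion d.left → c ≫ d = (Over.pullback g).map ((Over.pullback f).map u) →
        Nonempty (Grp.mk (Red.bc g (Red.bc f Q)) ≅ Grp.mk B) := by
  let Q : Over S := Over.mk (u.left.imageι ≫ G.hom)
  let j : Q ⟶ G := Over.homMk u.left.imageι rfl
  let q : A ⟶ Q := Over.homMk u.left.toImage (by
    change u.left.toImage ≫ u.left.imageι ≫ G.hom = A.hom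
    rw [Scheme.Hom.toImage_imageι_assoc, Over.w u])
  have hj : IsClosedImmersion j.left := inferInstanceAs (IsClosedImmersion u.left.imageι)
  have hjk : j.left.ker = u.left.ker := Scheme.IdealSheafData.ker_subschemeι u.left.ker
  haveI : Mono j := (Over.forget S).mono_of_mono_map (inferInstanceAs (Mono u.left.imageι))
  have hqj : q ≫ j = u := Over.OverMorphism.ext u.left.toImage_imageι
  -- on a chart the image is the given subgroup
  have key : ∀ (W : Scheme.{u}) (f : W ⟶ S) (W' : Scheme.{u}) (g : W' ⟶ W) (B : Over W')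
      (c : Red.bc g (Red.bc f A) ⟶ B) (d : B ⟶ Red.bc g (Red.bc f G)),
      IsOpenImmersion f → IsOpenImmersion g → IsSchemeTheoreticallyDominant c.left →
      IsClosedImmersion d.left → c ≫ d = (Over.pullback g).map ((Over.pullback f).map u) →
      ∃ e : Red.bc g (Red.bc f Q) ≅ B, e.hom ≫ d = (Over.pullback g).map ((Over.pullback f).map j) := by
    intro W f W' g B c d hf hg hc hd hcd
    haveI := hf
    haveI := hg
    haveI := hc
    haveI := hd
    haveI : QuasiCompact j.left := inferInstance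
    have hstep : ∀ {X : Scheme.{u}} {Y : Scheme.{u}} {A₁ A₂ : Over X} (h : Y ⟶ X) [Flat h] (v : A₁ ⟶ A₂)
        [QuasiCompact v.left],
        ((Over.pullback h).map v).left.ker = v.left.ker.comap (pullback.fst A₂.hom h) := fun h _ v _ =>
      GrothLib.AlgSp.ker_comap_of_flat (isPullback_overMap v h).flip
    haveI : QuasiCompact ((Over.pullback f).map u).left :=
      MorphismProperty.baseChange_map (P := @QuasiCompact) f u ‹_›
    haveI : IsClosedImmersion ((Over.pullback f).map j).left :=
      MorphismProperty.baseChange_map (P := @IsClosedImmersion) f j hj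
    haveI hjg : IsClosedImmersion ((Over.pullback g).map ((Over.pullback f).map j)).left :=
      MorphismProperty.baseChange_map (P := @IsClosedImmersion) g ((Over.pullback f).map j) ‹_›
    have hk : ((Over.pullback g).map ((Over.pullback f).map j)).left.ker = d.left.ker := by
      have h2 : ((Over.pullback g).map ((Over.pullback f).map u)).left.ker = d.left.ker := by
        rw [← hcd, Over.comp_left, Scheme.Hom.ker_comp, c.left.ker_eq_bot, Scheme.IdealSheafData.map_bot]
      rw [← h2, hstep, hstep g ((Over.pullback f).map u), hstep, hstep, hjk]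
    let e₀ := IsClosedImmersion.lift d.left ((Over.pullback g).map ((Over.pullback f).map j)).left hk.ge
    have he₀ : e₀ ≫ d.left = ((Over.pullback g).map ((Over.pullback f).map j)).left :=
      IsClosedImmersion.lift_fac _ _ _
    haveI : IsIso e₀ := IsClosedImmersion.isIso_of_ker_eq _ _ e₀ he₀ hk
    refine ⟨Over.isoMk (asIso e₀) ?_, Over.OverMorphism.ext he₀⟩
    change e₀ ≫ B.hom = _
    rw [← Over.w d, ← Category.assoc, he₀]
    exact Over.w _
  -- factorisation through the image is tested on the charts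
  have htest : ∀ (T : Over S) (z : T ⟶ G),
      (∀ (W : Scheme.{u}) (f : W ⟶ S) (W' : Scheme.{u}) (g : W' ⟶ W) (B : Over W') (_ : GrpObj B)
        (d : B ⟶ Red.bc g (Red.bc f G)), IsMonHom d →
        (∀ (Y : Over W') (y : Y ⟶ Red.bc g (Red.bc f Q)), ∃ b : Y ⟶ B,
          b ≫ d = y ≫ (Over.pullback g).map ((Over.pullback f).map j)) →
        (∀ (Y : Over W') (b : Y ⟶ B), ∃ y : Y ⟶ Red.bc g (Red.bc f Q),
          y ≫ (Over.pullback g).map ((Over.pullback f).map j) = b ≫ d) →
        ∀ (Y : Over W') (t : Y ⟶ Red.bc g (Red.bc f T)), ∃ y : Y ⟶ Red.bc g (Red.bc f Q),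
          y ≫ (Over.pullback g).map ((Over.pullback f).map j) =
            t ≫ (Over.pullback g).map ((Over.pullback f).map z)) →
      ∃ y : T ⟶ Q, y ≫ j = z := by
    intro T z hz
    refine exists_factor_local j z fun s => ?_
    obtain ⟨W, f, W', g, B, gB, c, d, hf, hg, hs, hc, hd1, hd2, hcd⟩ := hloc s
    obtain ⟨e, he⟩ := key W f W' g B c d hf hg hc hd2 hcd
    haveI := hf
    haveI := hg
    refine ⟨W', g ≫ f, inferInstance, hs, fun Y τ hτ a => ?_⟩
    let k : (Over.map f).obj ((Over.map g).obj (Over.mk τ)) ≅ Y := Over.isoMk (Iso.refl _) (by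
      change 𝟙 _ ≫ Y.hom = (τ ≫ g) ≫ f
      rw [Category.id_comp, Category.assoc, hτ])
    obtain ⟨y, hy⟩ := hz W f W' g B gB d hd1 (fun Y y => ⟨y ≫ e.hom, by rw [Category.assoc, he]⟩)
      (fun Y b => ⟨b ≫ e.inv, by rw [Category.assoc, ← he, Iso.inv_hom_id_assoc]⟩)
      (Over.mk τ) (bcPoint g (Red.bc f T) _ (bcPoint f T _ (k.hom ≫ a)))
    refine ⟨k.inv ≫ (bcPoint f Q _).symm ((bcPoint g (Red.bc f Q) _).symm y), ?_⟩
    rw [Category.assoc, Iso.inv_comp_eq, ← (bcPoint f G _).injective.eq_iff, bcPoint_comp_right,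
      Equiv.apply_symm_apply, ← (bcPoint g (Red.bc f G) _).injective.eq_iff, bcPoint_comp_right,
      Equiv.apply_symm_apply, hy, ← bcPoint_comp_right, ← bcPoint_comp_right, Category.assoc]
  obtain ⟨gQ, hgQ⟩ := GrothLib.EssFree.exists_grpObj_of_mono j
    (fun T => htest T 1 fun W f W' g B _ d hd hQB hBQ Y t => by
      obtain ⟨y, hy⟩ := hBQ Y 1
      refine ⟨y, hy.trans ?_⟩
      rw [MonObj.one_comp, Functor.map_one, Functor.map_one, MonObj.comp_one])
    (fun T a b => htest T _ fun W f W' g B _ d hd hQB hBQ Y t => by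
      obtain ⟨a', ha⟩ := hQB Y (t ≫ (Over.pullback g).map ((Over.pullback f).map a))
      obtain ⟨b', hb⟩ := hQB Y (t ≫ (Over.pullback g).map ((Over.pullback f).map b))
      obtain ⟨y, hy⟩ := hBQ Y (a' * b')
      refine ⟨y, hy.trans ?_⟩
      rw [MonObj.mul_comp, ha, hb, Functor.map_mul, Functor.map_mul, MonObj.comp_mul, Category.assoc, Category.assoc,
        ← Functor.map_comp, ← Functor.map_comp, ← Functor.map_comp, ← Functor.map_comp])
    (fun T a => htest T _ fun W f W' g B _ d hd hQB hBQ Y t => by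
      obtain ⟨a', ha⟩ := hQB Y (t ≫ (Over.pullback g).map ((Over.pullback f).map a))
      obtain ⟨y, hy⟩ := hBQ Y a'⁻¹
      refine ⟨y, hy.trans ?_⟩
      rw [GrpObj.inv_comp, ha, Functor.map_inv', Functor.map_inv', GrpObj.comp_inv, Category.assoc,
        ← Functor.map_comp, ← Functor.map_comp])
  refine ⟨Q, gQ, j, q, hgQ, hj, hqj, fun W f W' g B _ c d hf hg hc hd1 hd2 hcd => ?_⟩
  obtain ⟨e, he⟩ := key W f W' g B c d hf hg hc hd2 hcd
  haveI := hgQ
  haveI := hd1
  haveI : Mono d := (Over.forget W').mono_of_mono_map (haveI := hd2; inferInstanceAs (Mono d.left))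
  haveI : IsMonHom (e.hom ≫ d) := by rw [he]; infer_instance
  haveI : IsMonHom e.hom := isMonHom_of_comp_mono _ d
  exact ⟨Grp.mkIso' e⟩

end GrothLib.SubTorus14
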