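import Groth.Agent.Lib.SubTorus14.Join

/-!
The greatest locally split subtorus over a connected base.
-/

universe u

open CategoryTheory MonoidalCategory CartesianMonoidalCategory MonObj GrpObj AlgebraicGeometry
open CategoryTheory.Limits

namespace GrothLib.SubTorus14

open GrothLib.DiagGrp

variable {S : Scheme.{u}}

/-- Being an isomorphism is local on the base. -/
theorem isIso_of_locally {X Y : Over S} (g : X ⟶ Y)
    (h : ∀ s : S, ∃ U : S.Opens, s ∈ U ∧ IsIso ((Over.pullback U.ι).map g)) : IsIso g := by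
  choose U hsU hU using h
  have hl : ∀ s, IsIso ((Over.pullback (U s).ι).map g).left := fun s =>
    haveI := hU s; inferInstanceAs (IsIso ((Over.forget _).map ((Over.pullback (U s).ι).map g)))
  have h1 : IsIso ((Over.pullback (𝟙 S)).map g).left :=
    of_baseCover (MorphismProperty.isomorphisms Scheme.{u}) g (𝟙 S) (S.openCoverOfIsOpenCover U
      (TopologicalSpace.IsOpenCover.mk (eq_top_iff.mpr fun x _ => TopologicalSpace.Opens.mem_iSup.mpr ⟨x, hsU x⟩)))
      fun s => pAt_congr (MorphismProperty.isomorphisms Scheme.{u}) g (Category.comp_id (U s).ι).symm (hl s)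
  haveI : IsIso ((Over.forget S).map g) :=
    ((MorphismProperty.isomorphisms Scheme.{u}).arrow_mk_iso_iff
      (Arrow.isoMk ((Over.forget S).mapIso (Over.pullbackId.app X)) ((Over.forget S).mapIso (Over.pullbackId.app Y))
        (congrArg (fun t => t.left) (Over.pullbackId.hom.naturality g)).symm :
        Arrow.mk ((Over.pullback (𝟙 S)).map g).left ≅ Arrow.mk g.left)).mp h1
  exact isIso_of_reflects_iso g (Over.forget S)

/-- `T` is a split torus of rank `r` near `s`. -/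
def RankAt (T : Over S) [GrpObj T] (s : S) (r : ℕ) : Prop :=
  ∃ U : S.Opens, s ∈ U ∧ Red.IsSplitTorusWith (Fin r → ℤ) (Red.bc U.ι T)

theorem rankAt_le {T T' : Over S} [GrpObj T] [GrpObj T'] (g : T ⟶ T') [IsMonHom g] [Mono g] {s : S}
    {r r' : ℕ} (h : RankAt T s r) (h' : RankAt T' s r') : r ≤ r' := by
  obtain ⟨U, hU, hr⟩ := h
  obtain ⟨U', hU', hr'⟩ := h'
  obtain ⟨e⟩ := exists_chart_le (inf_le_left : U ⊓ U' ≤ U) hr
  obtain ⟨e'⟩ := exists_chart_le (inf_le_right : U ⊓ U' ≤ U') hr'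
  haveI : Nonempty (U ⊓ U' : S.Opens).toScheme := ⟨⟨s, hU, hU'⟩⟩
  haveI : (Over.pullback (U ⊓ U').ι).IsRightAdjoint := (Over.mapPullbackAdj _).isRightAdjoint
  haveI : IsMonHom e.inv.hom.hom := e.inv.hom.isMonHom_hom
  haveI : IsMonHom e'.hom.hom.hom := e'.hom.hom.isMonHom_hom
  haveI : IsIso e.inv.hom.hom := inferInstanceAs (IsIso ((Grp.forget _).mapIso e).inv)
  haveI : IsIso e'.hom.hom.hom := inferInstanceAs (IsIso ((Grp.forget _).mapIso e').hom)
  haveI : IsMonHom ((Over.pullback (U ⊓ U').ι).map g) := inferInstance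
  haveI : IsMonHom (e.inv.hom.hom ≫ (Over.pullback (U ⊓ U').ι).map g) := inferInstance
  haveI : IsMonHom ((e.inv.hom.hom ≫ (Over.pullback (U ⊓ U').ι).map g) ≫ e'.hom.hom.hom) := inferInstance
  haveI : Mono ((e.inv.hom.hom ≫ (Over.pullback (U ⊓ U').ι).map g) ≫ e'.hom.hom.hom) := inferInstance
  exact rank_le_of_mono ((e.inv.hom.hom ≫ (Over.pullback (U ⊓ U').ι).map g) ≫ e'.hom.hom.hom)

theorem rankAt_unique {T : Over S} [GrpObj T] {s : S} {r r' : ℕ} (h : RankAt T s r) (h' : RankAt T s r') :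
    r = r' :=
  le_antisymm (rankAt_le (𝟙 T) h h') (rankAt_le (𝟙 T) h' h)

/-- Over a connected base a locally split torus has constant rank. -/
theorem exists_rank [ConnectedSpace S] {T : Over S} [GrpObj T] (hT : LocallySplit T) :
    ∃ r : ℕ, ∀ s, RankAt T s r := by
  choose U hU r hr using hT
  have hlc : IsLocallyConstant r := (IsLocallyConstant.iff_exists_open _).mpr fun s =>
    ⟨U s, (U s).isOpen, hU s, fun t ht => rankAt_unique ⟨U t, hU t, hr t⟩ ⟨U s, ht, hr s⟩⟩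
  obtain ⟨s₀⟩ := (inferInstance : Nonempty S)
  exact ⟨r s₀, fun s => ⟨U s, hU s, (hlc.apply_eq_of_preconnectedSpace s s₀) ▸ hr s⟩⟩

theorem isIso_of_rankAt {T T' : Over S} [GrpObj T] [GrpObj T'] (g : T ⟶ T') [IsMonHom g] [Mono g]
    (h : ∀ s, ∃ r r', RankAt T s r ∧ RankAt T' s r' ∧ r' ≤ r) : IsIso g := by
  refine isIso_of_locally g fun s => ?_
  obtain ⟨r, r', ⟨U, hU, hr⟩, ⟨U', hU', hr'⟩, hle⟩ := h s
  obtain ⟨e⟩ := exists_chart_le (inf_le_left : U ⊓ U' ≤ U) hr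
  obtain ⟨e'⟩ := exists_chart_le (inf_le_right : U ⊓ U' ≤ U') hr'
  refine ⟨U ⊓ U', ⟨hU, hU'⟩, ?_⟩
  haveI : (Over.pullback (U ⊓ U').ι).IsRightAdjoint := (Over.mapPullbackAdj _).isRightAdjoint
  haveI : IsMonHom e.inv.hom.hom := e.inv.hom.isMonHom_hom
  haveI : IsMonHom e'.hom.hom.hom := e'.hom.hom.isMonHom_hom
  haveI : IsIso e.inv.hom.hom := inferInstanceAs (IsIso ((Grp.forget _).mapIso e).inv)
  haveI : IsIso e'.hom.hom.hom := inferInstanceAs (IsIso ((Grp.forget _).mapIso e').hom)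
  haveI : IsMonHom ((Over.pullback (U ⊓ U').ι).map g) := inferInstance
  haveI : IsMonHom (e.inv.hom.hom ≫ (Over.pullback (U ⊓ U').ι).map g) := inferInstance
  haveI : IsMonHom ((e.inv.hom.hom ≫ (Over.pullback (U ⊓ U').ι).map g) ≫ e'.hom.hom.hom) := inferInstance
  haveI : Mono ((e.inv.hom.hom ≫ (Over.pullback (U ⊓ U').ι).map g) ≫ e'.hom.hom.hom) := inferInstance
  haveI := isIso_of_mono (fun _ => hle) ((e.inv.hom.hom ≫ (Over.pullback (U ⊓ U').ι).map g) ≫ e'.hom.hom.hom)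
  haveI : IsIso (e.inv.hom.hom ≫ (Over.pullback (U ⊓ U').ι).map g) := IsIso.of_isIso_comp_right _ e'.hom.hom.hom
  exact IsIso.of_isIso_comp_left e.inv.hom.hom _

variable {G : Over S} [GrpObj G]

/-- A maximal locally split subtorus contains all of them. -/
theorem factor_of_maximal (hG : SGA3x.IsMultTypeFT G) {E : Over S} [GrpObj E] (j : E ⟶ G) [IsMonHom j]
    (hE : LocallySplit E)
    (hmax : ∀ (E' : Over S) [GrpObj E'] (j' : E' ⟶ G) [IsMonHom j'] [Mono j'] (g : E ⟶ E'),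
      LocallySplit E' → g ≫ j' = j → IsIso g)
    {E' : Over S} [GrpObj E'] (j' : E' ⟶ G) [IsMonHom j'] (hE' : LocallySplit E') :
    ∃ g' : E' ⟶ E, g' ≫ j = j' := by
  obtain ⟨E₃, _, j₃, g₁, g₂, h1, h2, h3, h4, h5⟩ := exists_join_locallySplit hG j j' hE hE'
  haveI := h1
  haveI := h2
  haveI := hmax E₃ j₃ g₁ h3 h4
  exact ⟨g₂ ≫ inv g₁, by rw [Category.assoc, ← h4, IsIso.inv_hom_id_assoc, h5]⟩

theorem locallySplit_DS (W : Scheme.{u}) (r : ℕ) : LocallySplit (Red.DS W (Fin r → ℤ)) := fun _ =>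
  ⟨⊤, trivial, r, ⟨bcChart (⊤ : W.Opens).ι (Fin r → ℤ)⟩⟩

/-- The rank of a locally split subtorus is bounded. -/
theorem exists_rankAt_bound (hG : SGA3x.IsMultTypeFT G) (s : S) :
    ∃ B : ℕ, ∀ (T : Over S) [GrpObj T] (j : T ⟶ G) [IsMonHom j] [Mono j] (r : ℕ), RankAt T s r → r ≤ B := by
  let p := S.fromSpecResidueField s
  obtain ⟨B, hB⟩ := exists_rank_bound
    (QuotTorus14.isMultTypeFT_of_charts ((hasChartsFpqc_of_isMultTypeFT hG).baseChange p))
  refine ⟨B, fun T _ j _ _ r hr => ?_⟩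
  obtain ⟨U, hU, ⟨e⟩⟩ := hr
  have hp : Set.range p ⊆ Set.range U.ι := by
    rw [Scheme.range_fromSpecResidueField, Scheme.Opens.range_ι]
    exact Set.singleton_subset_iff.mpr hU
  obtain ⟨e'⟩ := QuotTorus14.exists_chart_precomp U.ι (IsOpenImmersion.lift U.ι p hp) p
    (IsOpenImmersion.lift_fac _ _ _).symm e
  haveI : (Over.pullback p).IsRightAdjoint := (Over.mapPullbackAdj _).isRightAdjoint
  haveI : IsMonHom ((Over.pullback p).map j) := inferInstance
  obtain ⟨h1, h2⟩ := split_transport e' ((Over.pullback p).map j)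
  exact hB r (e'.inv.hom.hom ≫ (Over.pullback p).map j)

theorem exists_greatest_locallySplit [ConnectedSpace S] (hG : SGA3x.IsMultTypeFT G) :
    ∃ (T : Over S) (_ : GrpObj T) (j : T ⟶ G), IsMonHom j ∧ Mono j ∧ LocallySplit T ∧
      ∀ (T' : Over S) [GrpObj T'] (j' : T' ⟶ G) [IsMonHom j'] [Mono j'], LocallySplit T' →
        ∃ g : T' ⟶ T, g ≫ j = j' := by
  classical
  obtain ⟨s₀⟩ := (inferInstance : Nonempty S)
  obtain ⟨B, hB⟩ := exists_rankAt_bound hG s₀
  let P : ℕ → Prop := fun r => ∃ (T : Over S) (_ : GrpObj T) (j : T ⟶ G),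
    IsMonHom j ∧ Mono j ∧ LocallySplit T ∧ ∀ s, RankAt T s r
  have h0 : P 0 := ⟨Red.DS S (Fin 0 → ℤ), inferInstance, 1,
    isMonHom_of_points _ fun Y a b => by rw [MonObj.comp_one, MonObj.comp_one, MonObj.comp_one, _root_.mul_one],
    mono_DS_zero G, locallySplit_DS S 0, fun s => ⟨⊤, trivial, ⟨bcChart (⊤ : S.Opens).ι (Fin 0 → ℤ)⟩⟩⟩
  obtain ⟨T, gT, j, h1, h2, h3, h4⟩ := Nat.findGreatest_spec (P := P) (Nat.zero_le B) h0
  haveI := h1
  haveI := h2
  refine ⟨T, gT, j, h1, h2, h3, fun T' _ j' _ _ h' => factor_of_maximal hG j h3 ?_ j' h'⟩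
  intro E' _ jE _ _ g hE' hg
  obtain ⟨r', hr'⟩ := exists_rank hE'
  have hle : r' ≤ Nat.findGreatest P B :=
    Nat.le_findGreatest (hB E' jE r' (hr' s₀)) ⟨E', inferInstance, jE, inferInstance, inferInstance, hE', hr'⟩
  haveI : IsMonHom (g ≫ jE) := hg.symm ▸ ‹IsMonHom j›
  haveI : IsMonHom g := isMonHom_of_comp_mono g jE
  haveI : Mono g := mono_of_mono_fac hg
  exact isIso_of_rankAt g fun s => ⟨_, r', h4 s, hr' s, hle⟩

end GrothLib.SubTorus14
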