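import Groth.Agent.Lib.SubTorus14.Points
import Groth.Agent.Lib.DiagGrp.KernelLocus
import Groth.Agent.Lib.DiagGrp.SubgroupLocus
import Groth.Agent.Lib.DiagGrp.FibreMono

/-!
A homomorphism out of a diagonalisable group factors, locally on the base, as restriction of characters
followed by a monomorphism.
-/

universe u

open CategoryTheory MonoidalCategory CartesianMonoidalCategory MonObj GrpObj AlgebraicGeometry
open CategoryTheory.Limits

namespace GrothLib.SubTorus14

open GrothLib.DiagGrp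

variable {S : Scheme.{u}} {L : Type} [AddCommGroup L]

/-- A homomorphism through which a faithfully flat one factors is mono if the kernels agree on points over `z`. -/
theorem eq_one_of_lift {A B G : Over S} [GrpObj A] [GrpObj B] [GrpObj G] (v : A ⟶ B) [IsMonHom v] [Flat v.left]
    [Surjective v.left] (d : B ⟶ G) {Z : Scheme.{u}} (z : Z ⟶ S)
    (h : ∀ (C : Type u) [CommRing C] (t : Spec (CommRingCat.of C) ⟶ Z) (a : Over.mk (t ≫ z) ⟶ A),
      (a ≫ v) ≫ d = 1 → a ≫ v = 1)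
    (Y : Over S) (τ : Y.left ⟶ Z) (hτ : τ ≫ z = Y.hom) (g : Y ⟶ B) (hg : g ≫ d = 1) : g = 1 := by
  let P := pullback g.left v.left
  let a₀ : Over.mk (pullback.fst g.left v.left ≫ Y.hom) ⟶ A :=
    Over.homMk (pullback.snd g.left v.left) (by
      change pullback.snd g.left v.left ≫ A.hom = pullback.fst g.left v.left ≫ Y.hom
      rw [← Over.w g, ← Over.w v, pullback.condition_assoc])
  let j : Over.mk (pullback.fst g.left v.left ≫ Y.hom) ⟶ Y := Over.homMk (pullback.fst g.left v.left) rfl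
  haveI : Flat (pullback.fst g.left v.left) := inferInstance
  haveI : Surjective (pullback.fst g.left v.left) := inferInstance
  haveI : Epi j.left := Flat.epi_of_flat_of_surjective (pullback.fst g.left v.left)
  haveI : Epi j := (Over.forget S).epi_of_epi_map (inferInstanceAs (Epi j.left))
  have hav : a₀ ≫ v = j ≫ g := Over.OverMorphism.ext pullback.condition.symm
  rw [← cancel_epi j, MonObj.comp_one, ← hav]
  refine QuotTorus14.ext_affine fun C _ p t => ?_
  rw [MonObj.comp_one, ← Category.assoc]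
  have hp : p = (t.left ≫ pullback.fst g.left v.left ≫ τ) ≫ z := by
    simp only [Category.assoc, hτ]
    exact (Over.w t).symm
  have hd : ((t ≫ a₀) ≫ v) ≫ d = 1 := by
    rw [Category.assoc t, hav, Category.assoc, Category.assoc, hg, MonObj.comp_one, MonObj.comp_one]
  exact (show ∀ (p' : Spec (CommRingCat.of C) ⟶ S) (a : Over.mk p' ⟶ A),
      p' = (t.left ≫ pullback.fst g.left v.left ≫ τ) ≫ z → (a ≫ v) ≫ d = 1 → a ≫ v = 1 from
    fun p' a e => by subst e; exact h C _ a) p (t ≫ a₀) hp hd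

theorem mono_of_trivial_kernel {B G : Over S} [GrpObj B] [GrpObj G] (d : B ⟶ G) [IsMonHom d]
    (h : ∀ (Y : Over S) (g : Y ⟶ B), g ≫ d = 1 → g = 1) : Mono d :=
  ⟨fun {Y} a b hab => mul_inv_eq_one.mp (h Y (a * b⁻¹) (by
    rw [MonObj.mul_comp, GrpObj.inv_comp, hab, mul_inv_cancel]))⟩

theorem inv_mul_comp_eq_one {A B T : Over S} [GrpObj A] [GrpObj B] (v : A ⟶ B) [IsMonHom v] (a b : T ⟶ A) :
    (a⁻¹ * b) ≫ v = 1 ↔ a ≫ v = b ≫ v := by
  rw [MonObj.mul_comp, GrpObj.inv_comp, inv_mul_eq_one]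

theorem fg_subgroup (hL : AddGroup.FG L) (Δ : AddSubgroup L) : AddGroup.FG Δ := by
  haveI : Module.Finite ℤ L := Module.Finite.iff_addGroup_fg.mpr hL
  haveI : IsNoetherian ℤ L := isNoetherian_of_isNoetherianRing_of_finite ℤ L
  rw [← AddSubgroup.toIntSubmodule_toAddSubgroup Δ, AddGroup.fg_iff_addSubgroup_fg,
    ← Submodule.fg_iff_addSubgroup_fg]
  exact IsNoetherian.noetherian _

/-- If the kernel is `D(L/Δ)` on every fibre and contains it, it is exactly `D(L/Δ)`. -/
theorem exact_of_const {W : Scheme.{u}} {G : Over W} [GrpObj G] [IsSeparated G.hom] (hL : AddGroup.FG L)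
    (hG : LocallyOfFinitePresentation G.hom) (u : Red.DS W L ⟶ G) [IsMonHom u] (Δ : AddSubgroup L)
    (h₁ : ∀ (C : Type u) [CommRing C] (p : Spec (CommRingCat.of C) ⟶ W) (χ : Multiplicative L →* C),
      (∀ l : Δ, χ (Multiplicative.ofAdd (l : L)) = 1) → dsPoint L p χ ≫ u = 1)
    (h₂ : ∀ (w : W) (C : Type u) [CommRing C] (t : Spec (CommRingCat.of C) ⟶ Spec (W.residueField w))
      (χ : Multiplicative L →* C), dsPoint L (t ≫ W.fromSpecResidueField w) χ ≫ u = 1 →
        ∀ l : Δ, χ (Multiplicative.ofAdd (l : L)) = 1)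
    (C : Type u) [CommRing C] (p : Spec (CommRingCat.of C) ⟶ W) (χ : Multiplicative L →* C)
    (hχ : dsPoint L p χ ≫ u = 1) : ∀ l : Δ, χ (Multiplicative.ofAdd (l : L)) = 1 := by
  have hΔ := fg_subgroup hL Δ
  set v := Red.DSmap W Δ.subtype
  haveI : IsMonHom v := isMonHom_DSmap W Δ.subtype
  obtain ⟨_, _, _⟩ := QuotTorus14.dsmap_fppf (W := W) hL hΔ Δ.subtype Subtype.val_injective
  have hiff : ∀ (C : Type u) [CommRing C] (p : Spec (CommRingCat.of C) ⟶ W) (χ : Multiplicative L →* C),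
      dsPoint L p χ ≫ v = 1 ↔ ∀ l : Δ, χ (Multiplicative.ofAdd (l : L)) = 1 := fun C _ p χ => by
    rw [← map_one (dsPoint Δ p), dsPoint_DSmap, EmbeddingLike.apply_eq_iff_eq]
    exact ⟨fun h l => DFunLike.congr_fun h (Multiplicative.ofAdd l), fun h => MonoidHom.ext fun l => h l.toAdd⟩
  obtain ⟨d, hd⟩ := QuotTorus14.exists_desc v u fun C _ p a b hab => by
    obtain ⟨χ, hc⟩ := (dsPoint L p).surjective (a⁻¹ * b)
    have h3 : dsPoint L p χ ≫ v = 1 := by
      rw [hc]
      exact (inv_mul_comp_eq_one v a b).mpr hab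
    have h4 := h₁ C p χ ((hiff C p χ).mp h3)
    rw [hc] at h4
    exact (inv_mul_comp_eq_one u a b).mp h4
  haveI : IsMonHom (v ≫ d) := hd.symm ▸ ‹IsMonHom u›
  haveI : IsMonHom d := QuotTorus14.isMonHom_desc v d
  haveI := isClosedImmersion_one G
  haveI : LocallyOfFiniteType (Red.DS W Δ).hom := by
    haveI := locallyOfFiniteType_diag.{u} Δ hΔ
    exact MorphismProperty.pullback_snd (P := @LocallyOfFiniteType) _ _
      ‹LocallyOfFiniteType (Red.diag (ULift.{u} ℤ) Δ).hom›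
  haveI : Mono d := mono_of_fibres d fun w => (mono_pullback_iff d _).mpr fun Y τ hτ g hg =>
    eq_one_of_lift v d (W.fromSpecResidueField w) (fun C _ t a ha => by
      obtain ⟨χ, rfl⟩ := (dsPoint L _).surjective a
      rw [Category.assoc, hd] at ha
      exact (hiff C _ χ).mpr (h₂ w C t χ ha)) Y τ hτ g hg
  refine (hiff C p χ).mp ((cancel_mono d).mp ?_)
  rw [Category.assoc, hd, hχ, MonObj.one_comp]

variable {G : Over S} [GrpObj G] [IsSeparated G.hom]

/-- Near every point the kernel of a homomorphism out of `D(L)` is some `D(L/Δ)`. -/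
theorem exists_good_hom (hL : AddGroup.FG L) (hG : LocallyOfFinitePresentation G.hom) (u : Red.DS S L ⟶ G)
    [IsMonHom u] (s : S) : ∃ U : S.Opens, s ∈ U ∧ ∃ Δ : AddSubgroup L, QuotTorus14.Good u U Δ := by
  obtain ⟨V, hV, hsV, -⟩ := exists_isAffineOpen_mem_and_subset (TopologicalSpace.Opens.mem_top s)
  let f : Spec Γ(S, V) ⟶ S := hV.fromSpec
  haveI := isClosedImmersion_one G
  haveI : LocallyOfFiniteType (Red.DS S L).hom := by
    haveI := locallyOfFiniteType_diag.{u} L hL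
    exact MorphismProperty.pullback_snd (P := @LocallyOfFiniteType) _ _
      ‹LocallyOfFiniteType (Red.diag (ULift.{u} ℤ) L).hom›
  haveI := kernel_lfp u (Or.inr hG)
  obtain ⟨I, hfg, hI⟩ := exists_kernel_ideal f (bcChart f L) u
  obtain ⟨Γ, hΓc, hΓ⟩ := exists_locallyConstant_kernel f (bcChart f L) u I hI hfg
  set x : PrimeSpectrum Γ(S, V) := hV.primeIdealOf ⟨s, hsV⟩
  obtain ⟨_, ⟨g, rfl⟩, hxg, hgU⟩ := PrimeSpectrum.isTopologicalBasis_basic_opens.exists_subset_of_mem_open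
    (show x ∈ Γ ⁻¹' {Γ x} from rfl) (hΓc.isOpen_fiber _)
  let Δ : AddSubgroup L := Subgroup.toAddSubgroup' (Γ x)
  refine ⟨S.basicOpen g, ?_, Δ, fun C _ p hp a b => ?_⟩
  · have h2 : hV.primeIdealOf ⟨s, hsV⟩ ∈ hV.fromSpec ⁻¹ᵁ S.basicOpen g := by
      rw [hV.fromSpec_preimage_basicOpen]
      exact hxg
    have h3 : hV.fromSpec.base (hV.primeIdealOf ⟨s, hsV⟩) ∈ S.basicOpen g := h2
    rwa [hV.fromSpec_primeIdealOf] at h3
  let U := S.basicOpen g
  -- points of `S` inside the basic open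
  have hpt : ∀ (C : Type u) [CommRing C] (p : Spec (CommRingCat.of C) ⟶ S), (∀ y, p.base y ∈ U) →
      ∃ σ : Γ(S, V) →+* C, p = Spec.map (CommRingCat.ofHom σ) ≫ f ∧
        ∀ Q : PrimeSpectrum C, Γ (PrimeSpectrum.comap σ Q) = Γ x := by
    intro C _ p hp
    have hrp : Set.range p ⊆ Set.range hV.fromSpec := by
      rw [IsAffineOpen.range_fromSpec]
      rintro _ ⟨y, rfl⟩
      exact S.basicOpen_le g (hp y)
    set p₁ := IsOpenImmersion.lift hV.fromSpec p hrp
    have hσ : Spec.map (CommRingCat.ofHom (Spec.preimage p₁).hom) = p₁ := Spec.map_preimage p₁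
    refine ⟨(Spec.preimage p₁).hom, by rw [hσ]; exact (IsOpenImmersion.lift_fac _ _ _).symm, fun Q => hgU ?_⟩
    have h1 : hV.fromSpec.base (p₁.base Q) ∈ U := by
      rw [← Scheme.Hom.comp_apply, IsOpenImmersion.lift_fac]
      exact hp Q
    have h2 : p₁.base Q ∈ hV.fromSpec ⁻¹ᵁ S.basicOpen g := h1
    rw [hV.fromSpec_preimage_basicOpen, ← hσ] at h2
    exact h2
  have h₁ : ∀ (C : Type u) [CommRing C] (p : Spec (CommRingCat.of C) ⟶ S), (∀ y, p.base y ∈ U) →
      ∀ χ : Multiplicative L →* C, (∀ l : Δ, χ (Multiplicative.ofAdd (l : L)) = 1) → dsPoint L p χ ≫ u = 1 := by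
    intro C _ p hp χ hχ
    obtain ⟨σ, rfl, hσ⟩ := hpt C p hp
    rw [← ptG_bcChart]
    exact (hI C σ χ).mp
      (kills_of_const f (bcChart f L) u I hI hfg Γ hΓ (Γ x) σ hσ χ fun z hz => hχ ⟨z.toAdd, hz⟩)
  have h₂ : ∀ (C : Type u) [CommRing C] (p : Spec (CommRingCat.of C) ⟶ S), (∀ y, p.base y ∈ U) →
      ∀ χ : Multiplicative L →* C, dsPoint L p χ ≫ u = 1 → ∀ l : Δ, χ (Multiplicative.ofAdd (l : L)) = 1 := by
    intro C _ p hp χ hχ
    have hr : Set.range p ⊆ Set.range U.ι := by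
      rw [Scheme.Opens.range_ι]
      rintro _ ⟨y, rfl⟩
      exact hp y
    set t := IsOpenImmersion.lift U.ι p hr
    have ht : t ≫ U.ι = p := IsOpenImmersion.lift_fac _ _ _
    haveI := isMonHom_dsBc U.ι L
    haveI : IsMonHom ((Over.pullback U.ι).map u) := inferInstance
    haveI : IsMonHom (dsBc U.ι L ≫ (Over.pullback U.ι).map u) := inferInstance
    haveI : IsSeparated (Red.bc U.ι G).hom :=
      MorphismProperty.pullback_snd (P := @IsSeparated) _ _ ‹IsSeparated G.hom›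
    have key : ∀ (C : Type u) [CommRing C] (t : Spec (CommRingCat.of C) ⟶ (U : Scheme.{u}))
        (χ : Multiplicative L →* C),
        dsPoint L t χ ≫ dsBc U.ι L ≫ (Over.pullback U.ι).map u = 1 ↔ dsPoint L (t ≫ U.ι) χ ≫ u = 1 := by
      intro C _ t χ
      rw [← Category.assoc, dsPoint_dsBc, ← bcPoint_comp_right,
        ← map_one (bcPointMulEquiv U.ι G (Over.mk t))]
      exact Equiv.apply_eq_iff_eq _
    refine exact_of_const hL (MorphismProperty.pullback_snd (P := @LocallyOfFinitePresentation) _ _ hG)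
      (dsBc U.ι L ≫ (Over.pullback U.ι).map u) Δ (fun C _ t χ hχ => ?_) (fun w C _ t χ hχ => ?_) C t χ
      ((key C t χ).mpr (ht.symm ▸ hχ))
    · exact (key C t χ).mpr (h₁ C _ (fun y => (t.base y).2) χ hχ)
    · have h3 := (key C _ χ).mp hχ
      obtain ⟨σ, hσ, hσQ⟩ := hpt ((U : Scheme.{u}).residueField w) ((U : Scheme.{u}).fromSpecResidueField w ≫ U.ι)
        (fun y => (((U : Scheme.{u}).fromSpecResidueField w).base y).2)
      set h : ((U : Scheme.{u}).residueField w) →+* C := (Spec.preimage t).hom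
      have e : (t ≫ (U : Scheme.{u}).fromSpecResidueField w) ≫ U.ι = Spec.map (CommRingCat.ofHom (h.comp σ)) ≫ f := by
        rw [CommRingCat.ofHom_comp, Spec.map_comp]
        refine ((Category.assoc _ _ _).trans (congrArg (t ≫ ·) hσ)).trans ?_
        refine (Category.assoc _ _ _).symm.trans (congrArg (· ≫ f) ?_)
        congr 1
        exact (Spec.map_preimage t).symm
      rw [e, ← ptG_bcChart] at h3
      intro l
      have h4 := (hΓ _ σ C h χ).mp ((hI C (h.comp σ) χ).mpr h3)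
      have h5 : Γ ⟨RingHom.ker σ, RingHom.ker_isPrime σ⟩ = Γ x := by
        rw [← hσQ ⟨⊥, Ideal.isPrime_bot (α := ((U : Scheme.{u}).residueField w))⟩]
        congr 1
      exact h4 (Multiplicative.ofAdd (l : L)) (h5.symm ▸ l.2)
  obtain ⟨χ, hc⟩ := (dsPoint L p).surjective (a⁻¹ * b)
  haveI : IsMonHom (Red.DSmap S Δ.subtype) := isMonHom_DSmap S Δ.subtype
  have hu : a ≫ u = b ≫ u ↔ dsPoint L p χ ≫ u = 1 := by
    rw [hc]
    exact (inv_mul_comp_eq_one u a b).symm
  have hv : a ≫ Red.DSmap S Δ.subtype = b ≫ Red.DSmap S Δ.subtype ↔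
      dsPoint L p χ ≫ Red.DSmap S Δ.subtype = dsPoint L p 1 ≫ Red.DSmap S Δ.subtype := by
    rw [hc, map_one, show (1 : Over.mk p ⟶ Red.DS S L) ≫ Red.DSmap S Δ.subtype = 1 from MonObj.one_comp _]
    exact (inv_mul_comp_eq_one (Red.DSmap S Δ.subtype) a b).symm
  rw [hu, hv, QuotTorus14.comp_subtype_eq_iff]
  exact ⟨fun h l => by simpa using h₂ C p hp χ h l, fun h => h₁ C p hp χ fun l => by simpa using h l⟩

/-- Over a connected base a homomorphism out of `D(L)` is restriction of characters followed by a monomorphism. -/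
theorem exists_image [ConnectedSpace S] (hL : AddGroup.FG L) (hG : LocallyOfFinitePresentation G.hom)
    (u : Red.DS S L ⟶ G) [IsMonHom u] :
    ∃ (Δ : AddSubgroup L) (d : Red.DS S Δ ⟶ G), IsMonHom d ∧ Mono d ∧ Red.DSmap S Δ.subtype ≫ d = u := by
  obtain ⟨Δ, hΔ⟩ := QuotTorus14.good_global u (exists_good_hom hL hG u)
  have hfg := fg_subgroup hL Δ
  obtain ⟨_, _, _⟩ := QuotTorus14.dsmap_fppf (W := S) hL hfg Δ.subtype Subtype.val_injective
  obtain ⟨d, hd⟩ := QuotTorus14.exists_desc (Red.DSmap S Δ.subtype) u fun C _ p a b => (hΔ C p a b).mpr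
  haveI : IsMonHom (Red.DSmap S Δ.subtype) := isMonHom_DSmap S Δ.subtype
  haveI : IsMonHom (Red.DSmap S Δ.subtype ≫ d) := hd.symm ▸ ‹IsMonHom u›
  haveI : IsMonHom d := QuotTorus14.isMonHom_desc (Red.DSmap S Δ.subtype) d
  refine ⟨Δ, d, inferInstance, mono_of_trivial_kernel d fun Y g hg => ?_, hd⟩
  refine eq_one_of_lift (Red.DSmap S Δ.subtype) d (𝟙 S) (fun C _ t a ha => ?_) Y Y.hom (Category.comp_id _) g hg
  rw [Category.assoc, hd, ← MonObj.one_comp (X := Over.mk (t ≫ 𝟙 S)) u] at ha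
  exact ((hΔ C _ a 1).mp ha).trans (MonObj.one_comp _)

end GrothLib.SubTorus14
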